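import Groth.Prelude.Def_AlgEqCyc
import Groth.Agent.Lib.Chow.Prod
import Mathlib.AlgebraicGeometry.Morphisms.FiniteType
import Mathlib.AlgebraicGeometry.Morphisms.Separated
import Mathlib.AlgebraicGeometry.AlgClosed.Basic

/-!
# The family of points on a curve given by the graph of a closed immersion
-/

set_option autoImplicit false
set_option backward.isDefEq.respectTransparency false
set_option linter.style.haveILetI false

universe u

open CategoryTheory CategoryTheory.Limits AlgebraicGeometry IsLocalRing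

noncomputable section

namespace GrothLib.AlgEq26

section General

variable {P C : Scheme.{u}} (g : P ⟶ C) (Γ : C ⟶ P) (hΓ : Γ ≫ g = 𝟙 C)

include hΓ in
/-- The fibre of a section at a point has multiplicity one. -/
theorem fibreMult_section (x η : C) (hη : η ⤳ x) (h : Γ η ⤳ Γ x) :
    AlgEqCyc.fibreMult g (Γ x) (Γ η) h = 1 := by
  let A := P.presheaf.stalk (Γ x)
  let φ : A →+* C.presheaf.stalk x := (Γ.stalkMap x).hom
  let ψ : C.presheaf.stalk (g (Γ x)) →+* A := (g.stalkMap (Γ x)).hom
  let p₀ : Ideal A := RingHom.ker (Cyc.specMap (Γ x) (Γ η) h)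
  let K := (maximalIdeal (C.presheaf.stalk (g (Γ x)))).map ((Ideal.Quotient.mk p₀).comp ψ)
  haveI hlφ : IsLocalHom φ := inferInstanceAs (IsLocalHom (Γ.stalkMap x).hom)
  haveI hlψ : IsLocalHom ψ := inferInstanceAs (IsLocalHom (g.stalkMap (Γ x)).hom)
  have hker : ∀ a, φ a = 0 → a ∈ p₀ := by
    intro a ha
    have key : (P.presheaf.stalkSpecializes h ≫ P.residue (Γ η)) ≫ Γ.residueFieldMap η =
        Γ.stalkMap x ≫ C.presheaf.stalkSpecializes hη ≫ C.residue η := by
      rw [Category.assoc, Scheme.residue_residueFieldMap, ← Category.assoc,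
        Scheme.Hom.stalkSpecializes_stalkMap Γ η x hη, Category.assoc]
    have h1 : (Γ.residueFieldMap η).hom (Cyc.specMap (Γ x) (Γ η) h a) = 0 :=
      (congr($key a)).trans ((congrArg (fun z => C.residue η (C.presheaf.stalkSpecializes hη z)) ha).trans (by rw [map_zero, map_zero]))
    rw [RingHom.mem_ker]
    exact (map_eq_zero_iff _ (RingHom.injective _)).1 h1
  have hfac : ∀ a : A, a ∈ maximalIdeal A → ∃ b ∈ maximalIdeal (C.presheaf.stalk (g (Γ x))), a - ψ b ∈ p₀ := by
    intro a ha
    haveI : IsIso ((Γ ≫ g).stalkMap x) := by rw [hΓ]; infer_instance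
    have hcomp : g.stalkMap (Γ x) ≫ Γ.stalkMap x = (Γ ≫ g).stalkMap x := (Scheme.Hom.stalkMap_comp Γ g x).symm
    haveI : IsIso (g.stalkMap (Γ x) ≫ Γ.stalkMap x) := hcomp ▸ inferInstance
    obtain ⟨b, hb⟩ := ((ConcreteCategory.isIso_iff_bijective (g.stalkMap (Γ x) ≫ Γ.stalkMap x)).1 inferInstance).2 (φ a)
    refine ⟨b, fun hu => ?_, hker _ ?_⟩
    · exact ha ((isUnit_map_iff φ a).1 (hb ▸ (hu.map ψ).map φ))
    · rw [map_sub, sub_eq_zero]
      exact hb.symm
  have hK : K.comap (Ideal.Quotient.mk p₀) = maximalIdeal A := by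
    apply le_antisymm
    · rw [← Ideal.map_le_iff_le_comap.2 (?_ : maximalIdeal _ ≤ (maximalIdeal A).comap ψ) |> sup_eq_left.2]
      swap
      · intro b hb hu
        exact hb ((isUnit_map_iff ψ b).1 hu)
      refine le_sup_of_le_left ?_
      rw [show K = ((maximalIdeal _).map ψ).map (Ideal.Quotient.mk p₀) from (Ideal.map_map _ _).symm,
        Ideal.comap_map_of_surjective _ Ideal.Quotient.mk_surjective, ← RingHom.ker_eq_comap_bot, Ideal.mk_ker]
      refine sup_le (Ideal.map_le_iff_le_comap.2 fun b hb hu => hb ((isUnit_map_iff ψ b).1 hu)) fun a ha hu => ?_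
      exact ((hu.map (Cyc.specMap (Γ x) (Γ η) h)).ne_zero) (RingHom.mem_ker.1 ha)
    · intro a ha
      obtain ⟨b, hb, hab⟩ := hfac a ha
      rw [Ideal.mem_comap, ← sub_add_cancel a (ψ b), map_add, Ideal.Quotient.eq_zero_iff_mem.2 hab, zero_add]
      exact Ideal.mem_map_of_mem _ hb
  unfold AlgEqCyc.fibreMult
  have hlen : Module.length A (Cyc.LocQuot (Γ x) (Γ η) h ⧸ K) = 1 := by
    let f : A →ₗ[A] Cyc.LocQuot (Γ x) (Γ η) h ⧸ K := Algebra.linearMap A _
    have hf : Function.Surjective f := Ideal.Quotient.mk_surjective.comp Ideal.Quotient.mk_surjective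
    have hkf : LinearMap.ker f = maximalIdeal A := by
      rw [← hK]
      ext a
      rw [LinearMap.mem_ker]
      exact Ideal.Quotient.eq_zero_iff_mem
    rw [← (LinearMap.quotKerEquivOfSurjective f hf).length_eq, hkf, Module.length_eq_one_iff,
      isSimpleModule_iff_isCoatom]
    exact (maximalIdeal.isMaximal A).out
  exact (congrArg ENat.toNat hlen).trans rfl

end General

section Curve

variable {k : Type u} [Field k] {X C : Scheme.{u}} {p : X ⟶ Spec (CommRingCat.of k)}
  {q : C ⟶ Spec (CommRingCat.of k)} [IsSeparated q] [IrreducibleSpace C]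
  (ι : C ⟶ X) [IsClosedImmersion ι] (hι : ι ≫ p = q)

/-- The graph of a closed immersion. -/
def graph : C ⟶ pullback p q := pullback.lift ι (𝟙 C) (by rw [hι, Category.id_comp])

theorem graph_snd : graph ι hι ≫ pullback.snd p q = 𝟙 C := pullback.lift_snd _ _ _

instance : IsClosedImmersion (graph ι hι) :=
  by
    let m : pullback q q ⟶ pullback p q := pullback.map q q p q ι (𝟙 C) (𝟙 _) (by simp [hι]) (by simp)
    have hm : IsPullback m (pullback.fst q q) (pullback.fst p q) ι := by
      refine IsPullback.of_right ?_ (pullback.lift_fst _ _ _) (IsPullback.of_hasPullback p q).flip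
      rw [show m ≫ pullback.snd p q = pullback.snd q q from (pullback.lift_snd _ _ _).trans (Category.comp_id _), hι]
      exact (IsPullback.of_hasPullback q q).flip
    haveI : IsClosedImmersion m := MorphismProperty.of_isPullback hm.flip ‹IsClosedImmersion ι›
    have hg : graph ι hι = pullback.diagonal q ≫ m := by
      apply pullback.hom_ext <;> simp [graph, m]
    rw [hg]
    infer_instance

theorem fibreFun_graph [DecidableEq X] [DecidableEq ↥(pullback p q)] (t : Spec (CommRingCat.of k) ⟶ C)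
    (ht : t ≫ q = 𝟙 _) (x : X) :
    AlgEqCyc.fibreFun p q (Function.locallyFinsuppWithin.single (graph ι hι (genericPoint C)) (1 : ℤ)) t ht x =
      Function.locallyFinsuppWithin.single (ι (t (closedPoint k))) (1 : ℤ) x := by
  let η := genericPoint C
  have hfst : AlgEqCyc.slice p q t ht ≫ pullback.fst p q = 𝟙 X := pullback.lift_fst _ _ _
  have hsnd : AlgEqCyc.slice p q t ht ≫ pullback.snd p q = p ≫ t := pullback.lift_snd _ _ _
  have hp : ∀ y : Spec (CommRingCat.of k), y = closedPoint k := fun y => Subsingleton.elim _ _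
  have hiff : graph ι hι η ⤳ AlgEqCyc.slice p q t ht x ↔ x = ι (t (closedPoint k)) := by
    constructor
    · intro hs
      obtain ⟨c, hc⟩ := hs.mem_closed (graph ι hι).isClosedEmbedding.isClosed_range (Set.mem_range_self η)
      have h1 := congrArg (pullback.snd p q) hc
      rw [← Scheme.Hom.comp_apply, ← Scheme.Hom.comp_apply, graph_snd, hsnd, Scheme.Hom.comp_apply, hp (p x)] at h1
      have h2 := congrArg (pullback.fst p q) hc
      rw [← Scheme.Hom.comp_apply, ← Scheme.Hom.comp_apply, hfst, graph, pullback.lift_fst] at h2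
      simp at h1 h2
      rw [← h2, h1]
    · rintro rfl
      have hq : graph ι hι (t (closedPoint k)) = AlgEqCyc.slice p q t ht (ι (t (closedPoint k))) := by
        have e : t ≫ graph ι hι = t ≫ ι ≫ AlgEqCyc.slice p q t ht := by
          apply pullback.hom_ext
          · simp [graph, AlgEqCyc.slice]
          · simp only [Category.assoc, graph_snd, hsnd]
            rw [← Category.assoc ι, hι, reassoc_of% ht, Category.comp_id]
        exact (Scheme.Hom.comp_apply _ _ _).symm.trans (congrArg (fun r => r (closedPoint k)) e)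
      exact hq ▸ (genericPoint_specializes _).map (graph ι hι).continuous
  let w₀ := graph ι hι η
  let W : AlgebraicCycle (pullback p q) ℤ := Function.locallyFinsuppWithin.single w₀ (1 : ℤ)
  show ∑ᶠ w : {w : ↥(pullback p q) // W w ≠ 0 ∧ w ⤳ AlgEqCyc.slice p q t ht x},
    W w.1 * (AlgEqCyc.fibreMult (pullback.snd p q) (AlgEqCyc.slice p q t ht x) w.1 w.2.2 : ℤ) = _
  rw [Function.locallyFinsuppWithin.single_apply]
  by_cases hx : x = ι (t (closedPoint k))
  · rw [if_pos hx]
    have hw₀ : W w₀ ≠ 0 ∧ w₀ ⤳ AlgEqCyc.slice p q t ht x := ⟨by simp [W], hiff.2 hx⟩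
    rw [finsum_eq_single _ ⟨w₀, hw₀⟩ (fun w hw => absurd (Subtype.ext (by
      by_contra hne
      exact w.2.1 (by simp [W, hne]))) hw)]
    obtain ⟨c, hc⟩ := hw₀.2.mem_closed (graph ι hι).isClosedEmbedding.isClosed_range (Set.mem_range_self η)
    have key : ∀ (v : ↥(pullback p q)) (hv : w₀ ⤳ v), v = graph ι hι c →
        AlgEqCyc.fibreMult (pullback.snd p q) v w₀ hv = 1 := by
      rintro v hv rfl
      exact fibreMult_section _ _ (graph_snd ι hι) c η (genericPoint_specializes c) hv
    rw [key _ hw₀.2 hc.symm]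
    simp [W]
  · rw [if_neg hx]
    refine finsum_eq_zero_of_forall_eq_zero fun w => absurd ?_ hx
    have : w.1 = w₀ := by
      by_contra hne
      exact w.2.1 (by simp [W, hne])
    refine hiff.1 ?_
    have h2 := w.2.2
    rw [this] at h2
    exact h2

include hι in
theorem isElemAlgTriv [DecidableEq X] (hs : Smooth q) (hp : Neron.IsProjectiveOver k (Over.mk q))
    (hi : IsIntegral C) (hd : topologicalKrullDim C = 1)
    (t₁ t₂ : Spec (CommRingCat.of k) ⟶ C) (h₁ : t₁ ≫ q = 𝟙 _) (h₂ : t₂ ≫ q = 𝟙 _) :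
    AlgEqCyc.IsElemAlgTriv p (Function.locallyFinsuppWithin.single (ι (t₁ (closedPoint k))) (1 : ℤ) -
      Function.locallyFinsuppWithin.single (ι (t₂ (closedPoint k))) (1 : ℤ)) := by
  classical
  refine ⟨C, q, hs, hp, hi, hd, Function.locallyFinsuppWithin.single (graph ι hι (genericPoint C)) 1, fun w hw => ?_,
    t₁, t₂, h₁, h₂, fun x => ?_⟩
  · have hw0 : w = graph ι hι (genericPoint C) := by
      by_contra hne
      exact hw (by simp [hne])
    rw [hw0, ← Scheme.Hom.comp_apply, graph_snd]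
    exact genericPoint_closure C
  · rw [fibreFun_graph ι hι t₁ h₁, fibreFun_graph ι hι t₂ h₂]
    rfl

end Curve

theorem isSeparated_of_isProjectiveOver {k : Type u} [Field k] {C : Scheme.{u}} {q : C ⟶ Spec (CommRingCat.of k)}
    (hp : Neron.IsProjectiveOver k (Over.mk q)) : IsSeparated q := by
  obtain ⟨n, i, hi, e⟩ := hp
  haveI := Chow.isProper_toBase n (Spec (CommRingCat.of k))
  haveI := hi
  change _ = q at e
  rw [← e]
  infer_instance

/-- Two rational points on a connected union of curves are algebraically equivalent. -/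
theorem isAlgEquiv_of_connected {k : Type u} [Field k] [IsAlgClosed k] {X : Scheme.{u}} [DecidableEq ↥X]
    (p : X ⟶ Spec (CommRingCat.of k)) {n : ℕ}
    (C : Fin n → Scheme.{u}) (q : (i : Fin n) → (C i ⟶ Spec (CommRingCat.of k)))
    (ι : (i : Fin n) → (C i ⟶ X)) (hι : ∀ i, IsClosedImmersion (ι i)) (hq : ∀ i, ι i ≫ p = q i)
    (hs : ∀ i, Smooth (q i)) (hpr : ∀ i, Neron.IsProjectiveOver k (Over.mk (q i)))
    (hint : ∀ i, IsIntegral (C i)) (hd : ∀ i, topologicalKrullDim ↥(C i) = 1)
    (hconn : _root_.IsConnected (⋃ i, Set.range ⇑(ι i)))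
    (P Q : Spec (CommRingCat.of k) ⟶ X) (hP : P ≫ p = 𝟙 _) (hQ : Q ≫ p = 𝟙 _)
    (hPC : P (closedPoint k) ∈ ⋃ i, Set.range ⇑(ι i)) (hQC : Q (closedPoint k) ∈ ⋃ i, Set.range ⇑(ι i)) :
    AlgEqCyc.IsAlgEquiv p (Function.locallyFinsuppWithin.single (P (closedPoint k)) (1 : ℤ))
      (Function.locallyFinsuppWithin.single (Q (closedPoint k)) (1 : ℤ)) := by
  let H := AlgEqCyc.algTriv p
  let sg : X → AlgebraicCycle X ℤ := fun x => Function.locallyFinsuppWithin.single x (1 : ℤ)
  have step : ∀ i (c c' : C i), IsClosed ({c} : Set (C i)) → IsClosed ({c'} : Set (C i)) → sg (ι i c) - sg (ι i c') ∈ H := by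
    intro i c c' hc hc'
    haveI := hι i
    haveI := hs i
    haveI := hint i
    haveI := isSeparated_of_isProjectiveOver (hpr i)
    haveI : LocallyOfFiniteType (q i) := inferInstance
    obtain ⟨t, ht⟩ := (pointEquivClosedPoint (q i)).surjective ⟨c, hc⟩
    obtain ⟨t', ht'⟩ := (pointEquivClosedPoint (q i)).surjective ⟨c', hc'⟩
    obtain rfl : t.1 (closedPoint k) = c := congrArg Subtype.val ht
    obtain rfl : t'.1 (closedPoint k) = c' := congrArg Subtype.val ht'
    exact AddSubgroup.subset_closure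
      (isElemAlgTriv (ι i) (hq i) (hs i) (hpr i) (hint i) (hd i) t.1 t'.1 t.2 t'.2)
  have hcl : ∀ (R : Spec (CommRingCat.of k) ⟶ X), R ≫ p = 𝟙 _ → ∀ i (c : C i), ι i c = R (closedPoint k) →
      IsClosed ({c} : Set (C i)) := by
    intro R hR i c hc
    haveI := hι i
    have h1 : IsClosed ({ι i c} : Set X) := by
      refine closure_subset_iff_isClosed.1 fun y hy => ?_
      rw [hc] at hy ⊢
      obtain ⟨_, ⟨U₀, hU, rfl⟩, hyU, -⟩ :=
        X.isBasis_affineOpens.exists_subset_of_mem_open (Set.mem_univ y) isOpen_univ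
      let U : X.Opens := U₀
      have hsp : R (closedPoint k) ⤳ y := specializes_iff_mem_closure.2 hy
      have hxU : R (closedPoint k) ∈ U := hsp.mem_open U.2 hyU
      have hr : Set.range R ⊆ Set.range U.ι := by
        rintro _ ⟨z, rfl⟩
        rw [Scheme.Opens.range_ι, Subsingleton.elim z (closedPoint k)]
        exact hxU
      let R' := IsOpenImmersion.lift U.ι R hr
      have hR' : R' ≫ U.ι = R := IsOpenImmersion.lift_fac _ _ _
      haveI : IsAffine U.toScheme := hU
      haveI := isClosedImmersion_of_comp_eq_id (U.ι ≫ p) R' (by rw [← Category.assoc, hR', hR])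
      obtain ⟨z, hz⟩ := (show (⟨y, hyU⟩ : U.toScheme) ∈ Set.range R' by
        refine R'.isClosedEmbedding.isClosed_range.closure_subset_iff.2 (Set.Subset.refl _)
          (closure_mono (Set.singleton_subset_iff.2 (Set.mem_range_self (closedPoint k)))
            (specializes_iff_mem_closure.1 (U.ι.isOpenEmbedding.isInducing.specializes_iff.1 ?_)))
        rw [← Scheme.Hom.comp_apply, hR']
        exact hsp)
      rw [Set.mem_singleton_iff, ← hR', Scheme.Hom.comp_apply, ← Subsingleton.elim z (closedPoint k), hz]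
      rfl
    rw [← Set.preimage_image_eq {c} (ι i).isClosedEmbedding.injective, Set.image_singleton]
    exact h1.preimage (ι i).continuous
  obtain ⟨i₀, c₀, hc₀⟩ := Set.mem_iUnion.1 hPC
  obtain ⟨j₀, d₀, hd₀⟩ := Set.mem_iUnion.1 hQC
  let Good : Fin n → Prop := fun i => ∃ c : C i, IsClosed ({c} : Set (C i)) ∧ sg (P (closedPoint k)) - sg (ι i c) ∈ H
  have hgood₀ : Good i₀ := ⟨c₀, hcl P hP i₀ c₀ hc₀, by rw [hc₀, sub_self]; exact zero_mem _⟩
  have hprop : ∀ i j, Good i → (Set.range (ι i) ∩ Set.range (ι j)).Nonempty → Good j := by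
    rintro i j ⟨c, hc, hcH⟩ ⟨x, ⟨a, ha⟩, b, hb⟩
    haveI := hι i
    haveI := hι j
    haveI := hs i
    haveI : JacobsonSpace (C i) := LocallyOfFiniteType.jacobsonSpace (q i)
    obtain ⟨z, hz, hzc⟩ := nonempty_inter_closedPoints (Z := ι i ⁻¹' Set.range (ι j)) ⟨a, b, hb.trans ha.symm⟩
      (((ι j).isClosedEmbedding.isClosed_range.preimage (ι i).continuous).isLocallyClosed)
    obtain ⟨w, hw⟩ := hz
    refine ⟨w, ?_, ?_⟩
    · rw [← Set.preimage_image_eq {w} (ι j).isClosedEmbedding.injective, Set.image_singleton, hw,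
        ← Set.image_singleton]
      exact ((ι i).isClosedEmbedding.isClosedMap _ hzc).preimage (ι j).continuous
    · rw [hw]
      have := H.add_mem hcH (step i c z hc hzc)
      rwa [sub_add_sub_cancel] at this
  have hall : ∀ j, (Set.range (ι j)).Nonempty → Good j := by
    by_contra hne
    push Not at hne
    obtain ⟨j, ⟨x, hx⟩, hj⟩ := hne
    have hclosed : ∀ S : Set (Fin n), IsClosed (⋃ i ∈ S, Set.range (ι i)) := fun S =>
      S.toFinite.isClosed_biUnion fun i _ => (haveI := hι i; (ι i).isClosedEmbedding.isClosed_range)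
    obtain ⟨y, -, hy1, hy2⟩ := isPreconnected_closed_iff.1 hconn.isPreconnected _ _ (hclosed {i | Good i})
      (hclosed {i | ¬ Good i})
      (fun y hy => by
        obtain ⟨i, hi⟩ := Set.mem_iUnion.1 hy
        by_cases hg : Good i
        · exact Or.inl (Set.mem_biUnion hg hi)
        · exact Or.inr (Set.mem_biUnion hg hi))
      ⟨P (closedPoint k), hPC, Set.mem_biUnion hgood₀ ⟨c₀, hc₀⟩⟩
      ⟨x, Set.mem_iUnion.2 ⟨j, hx⟩, Set.mem_biUnion hj hx⟩
    obtain ⟨a, ha, hya⟩ := Set.mem_iUnion₂.1 hy1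
    obtain ⟨b, hb, hyb⟩ := Set.mem_iUnion₂.1 hy2
    exact hb (hprop a b ha ⟨y, hya, hyb⟩)
  obtain ⟨c, hc, hcH⟩ := hall j₀ ⟨_, d₀, hd₀⟩
  have := H.add_mem hcH (step j₀ c d₀ hc (hcl Q hQ j₀ d₀ hd₀))
  rw [sub_add_sub_cancel, hd₀] at this
  exact this

end GrothLib.AlgEq26
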